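import Mathlib.FieldTheory.RatFunc.AsPolynomial
import Mathlib.RingTheory.LaurentSeries
import Mathlib.Topology.Algebra.Valued.ValuationTopology
import Mathlib.Topology.Algebra.MvPolynomial
import Mathlib.RingTheory.AdicCompletion.Completeness
import Mathlib.RingTheory.Smooth.AdicCompletion
import Mathlib.RingTheory.Etale.Basic
import Mathlib.RingTheory.Flat.TorsionFree
import Mathlib.RingTheory.Smooth.Flat
import Mathlib.RingTheory.Unramified.Finite
import Mathlib.RingTheory.Localization.Integral
import Mathlib.RingTheory.Ideal.GoingUp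
import Mathlib.RingTheory.FiniteType
import Mathlib.Algebra.MvPolynomial.Funext

/-!
Algebra for moving a rational point along a rational curve into a given open subset:
a formal curve through the point, and its approximation by a rational curve.
-/

set_option autoImplicit false
set_option maxHeartbeats 1000000

universe u

open Polynomial
open scoped LaurentSeries RatFunc

noncomputable section

namespace Groth.Agent.RTrivLib

variable {k K : Type u} [Field k] [Field K] [Algebra k K]

/-- A formal curve through a point of a domain that is étale over a polynomial ring, avoiding a given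
hypersurface. -/
theorem exists_curve {d : ℕ} [Infinite K] {B : Type u} [CommRing B] [IsDomain B]
    [Algebra (MvPolynomial (Fin d) k) B] [Algebra.Etale (MvPolynomial (Fin d) k) B]
    (ψ0 : B →+* K) (hψ0 : ∀ r : k, ψ0 (algebraMap (MvPolynomial (Fin d) k) B (MvPolynomial.C r)) = algebraMap k K r)
    (b : B) (hb : b ≠ 0) :
    ∃ ψ : B →+* PowerSeries K, PowerSeries.constantCoeff.comp ψ = ψ0 ∧
      (∀ r : k, ψ (algebraMap (MvPolynomial (Fin d) k) B (MvPolynomial.C r)) = PowerSeries.C (algebraMap k K r)) ∧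
      ψ b ≠ 0 := by
  let P := MvPolynomial (Fin d) k
  obtain ⟨h, hh0, y, hy⟩ : ∃ h : P, h ≠ 0 ∧ ∃ y : B, algebraMap P B h = b * y := by
    let L := FractionRing B
    let F := FractionRing P
    haveI : Module.IsTorsionFree P B := inferInstance
    have hinj : Function.Injective (algebraMap P B) := by
      rw [injective_iff_map_eq_zero]
      intro p hp
      have h1 : p • (1 : B) = 0 := by rw [Algebra.smul_def, mul_one, hp]
      exact (smul_eq_zero.1 h1).resolve_right one_ne_zero
    haveI : FaithfulSMul P L := (faithfulSMul_iff_algebraMap_injective P L).2 (by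
      rw [IsScalarTower.algebraMap_eq P B L]
      exact (IsFractionRing.injective B L).comp hinj)
    letI : Algebra F L := FractionRing.liftAlgebra P L
    haveI : Algebra.FormallyUnramified P L := Algebra.FormallyUnramified.comp P B L
    haveI : Algebra.FormallyUnramified F L := Algebra.FormallyUnramified.of_restrictScalars P F L
    haveI : Algebra.EssFiniteType P L := Algebra.EssFiniteType.comp P B L
    haveI : Algebra.EssFiniteType F L := Algebra.EssFiniteType.of_comp P F L
    haveI : Module.Finite F L := Algebra.FormallyUnramified.finite_of_free F L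
    have halg : IsAlgebraic P b := by
      have h1 : IsAlgebraic P (algebraMap B L b) :=
        (IsFractionRing.isAlgebraic_iff P F L).2 (Algebra.IsAlgebraic.isAlgebraic _)
      exact (isAlgebraic_algebraMap_iff (IsFractionRing.injective B L)).1 h1
    obtain ⟨r, hr, z, hz⟩ := halg.exists_nonzero_dvd (mem_nonZeroDivisors_of_ne_zero hb)
    exact ⟨r, hr, z, hz⟩
  let a : Fin d → K := fun i => ψ0 (algebraMap P B (MvPolynomial.X i))
  obtain ⟨w, hw⟩ : ∃ w : Fin d → K, MvPolynomial.eval w (MvPolynomial.map (algebraMap k K) h) ≠ 0 := by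
    by_contra! hc
    exact hh0 (MvPolynomial.map_injective _ (algebraMap k K).injective
      (by rw [map_zero]; exact MvPolynomial.funext fun x => by rw [hc x, map_zero]))
  let θ' : P →+* K[X] := MvPolynomial.eval₂Hom (Polynomial.C.comp (algebraMap k K))
    (fun i => Polynomial.C (a i) + Polynomial.X * Polynomial.C (w i - a i))
  have hθ'C : ∀ r : k, θ' (MvPolynomial.C r) = Polynomial.C (algebraMap k K r) :=
    fun r => MvPolynomial.eval₂Hom_C _ _ _
  have hθ'X : ∀ i, θ' (MvPolynomial.X i) = Polynomial.C (a i) + Polynomial.X * Polynomial.C (w i - a i) :=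
    fun i => MvPolynomial.eval₂Hom_X' _ _ _
  let θ : P →+* PowerSeries K := Polynomial.coeToPowerSeries.ringHom.comp θ'
  have hθC : ∀ r : k, θ (MvPolynomial.C r) = PowerSeries.C (algebraMap k K r) := fun r => by
    show ((θ' (MvPolynomial.C r) : K[X]) : PowerSeries K) = _
    rw [hθ'C, Polynomial.coe_C]
  have hθ0 : ∀ p : P, PowerSeries.constantCoeff (θ p) = ψ0 (algebraMap P B p) := fun p => by
    have : PowerSeries.constantCoeff.comp θ = ψ0.comp (algebraMap P B) := by
      refine MvPolynomial.ringHom_ext (fun r => ?_) (fun i => ?_)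
      · show PowerSeries.constantCoeff (θ (MvPolynomial.C r)) = ψ0 (algebraMap P B (MvPolynomial.C r))
        rw [hθC, hψ0, PowerSeries.constantCoeff_C]
      · show PowerSeries.constantCoeff ((θ' (MvPolynomial.X i) : K[X]) : PowerSeries K) = a i
        rw [hθ'X]
        simp
    exact DFunLike.congr_fun this p
  have hθh : θ h ≠ 0 := by
    intro h0
    have h1 : θ' h = 0 := Polynomial.coe_injective _ (by rw [Polynomial.coe_zero]; exact h0)
    apply hw
    have : (Polynomial.evalRingHom (1 : K)).comp θ' =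
        (MvPolynomial.eval w).comp (MvPolynomial.map (algebraMap k K)) := by
      refine MvPolynomial.ringHom_ext (fun r => ?_) (fun i => ?_) <;>
        simp [hθ'C, hθ'X]
    have h2 := DFunLike.congr_fun this h
    simp only [RingHom.comp_apply, h1, map_zero] at h2
    exact h2.symm
  letI : Algebra P (PowerSeries K) := θ.toAlgebra
  let I : Ideal (PowerSeries K) := Ideal.span {PowerSeries.X}
  let f0 : B →ₐ[P] PowerSeries K ⧸ I :=
    { (Ideal.Quotient.mk I).comp (PowerSeries.C.comp ψ0) with
      commutes' := fun p => by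
        show Ideal.Quotient.mk I (PowerSeries.C (ψ0 (algebraMap P B p))) = Ideal.Quotient.mk I (θ p)
        rw [Ideal.Quotient.eq, Ideal.mem_span_singleton, PowerSeries.X_dvd_iff, map_sub,
          PowerSeries.constantCoeff_C, hθ0, sub_self] }
  obtain ⟨g, hg⟩ := Algebra.FormallySmooth.exists_mkₐ_comp_eq_of_isAdicComplete (I := I) f0
  refine ⟨g.toRingHom, ?_, fun r => ?_, fun hb0 => hθh ?_⟩
  · refine RingHom.ext fun z => ?_
    have h1 : Ideal.Quotient.mk I (g z) = Ideal.Quotient.mk I (PowerSeries.C (ψ0 z)) :=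
      DFunLike.congr_fun hg z
    rw [Ideal.Quotient.eq, Ideal.mem_span_singleton, PowerSeries.X_dvd_iff, map_sub,
      PowerSeries.constantCoeff_C, sub_eq_zero] at h1
    exact h1
  · exact (g.commutes _).trans (hθC r)
  · have h1 : g (algebraMap P B h) = θ h := g.commutes h
    rw [← h1, hy, map_mul]
    exact mul_eq_zero_of_left hb0 _

section eval

variable (c : K)

/-- Evaluation at `c` of a ring homomorphism into rational functions without poles at `c`. -/
def evalHom {A : Type u} [CommRing A] (θ : A →+* RatFunc K)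
    (h : ∀ a, (θ a).denom.eval c ≠ 0) : A →+* K where
  toFun a := RatFunc.eval (RingHom.id K) c (θ a)
  map_one' := by simp
  map_mul' a b := by
    rw [map_mul, RatFunc.eval_mul] <;> exact h _
  map_zero' := by simp
  map_add' a b := by
    rw [map_add, RatFunc.eval_add] <;> exact h _

theorem evalHom_apply {A : Type u} [CommRing A] (θ : A →+* RatFunc K)
    (h : ∀ a, (θ a).denom.eval c ≠ 0) (a : A) :
    evalHom c θ h a = RatFunc.eval (RingHom.id K) c (θ a) := rfl

theorem denom_ne_zero_of_gens {A : Type u} [CommRing A] [Algebra k A] (θ : A →+* RatFunc K)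
    (hθ : ∀ r, θ (algebraMap k A r) = RatFunc.C (algebraMap k K r)) (s : Set A)
    (hs : Algebra.adjoin k s = ⊤) (h : ∀ a ∈ s, (θ a).denom.eval c ≠ 0) (a : A) :
    (θ a).denom.eval c ≠ 0 := by
  have ha : a ∈ Algebra.adjoin k s := by rw [hs]; trivial
  refine Algebra.adjoin_induction (fun x hx => h x hx) (fun r => ?_) (fun x y _ _ hx hy => ?_)
    (fun x y _ _ hx hy => ?_) ha
  · rw [hθ, RatFunc.denom_C]; simp
  · rw [map_add]
    intro h0
    have := Polynomial.eval_eq_zero_of_dvd_of_eval_eq_zero (RatFunc.denom_add_dvd (θ x) (θ y)) h0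
    rw [Polynomial.eval_mul] at this
    exact mul_ne_zero hx hy this
  · rw [map_mul]
    intro h0
    have := Polynomial.eval_eq_zero_of_dvd_of_eval_eq_zero (RatFunc.denom_mul_dvd (θ x) (θ y)) h0
    rw [Polynomial.eval_mul] at this
    exact mul_ne_zero hx hy this

end eval

theorem eval_zero_of_coe {r : RatFunc K} {g : PowerSeries K} (h : (r : K⸨X⸩) = (g : K⸨X⸩)) :
    r.denom.eval 0 ≠ 0 ∧ RatFunc.eval (RingHom.id K) 0 r = PowerSeries.constantCoeff g := by
  have hmul : (algebraMap K[X] (RatFunc K) r.num) = r * algebraMap K[X] (RatFunc K) r.denom := by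
    conv_rhs => arg 1; rw [← RatFunc.num_div_denom r]
    rw [div_mul_cancel₀ _ (RatFunc.algebraMap_ne_zero (RatFunc.denom_ne_zero r))]
  have h1 : (r.num : PowerSeries K) = g * (r.denom : PowerSeries K) := by
    apply HahnSeries.ofPowerSeries_injective (Γ := ℤ)
    rw [map_mul]
    show ((r.num : PowerSeries K) : K⸨X⸩) = (g : K⸨X⸩) * ((r.denom : PowerSeries K) : K⸨X⸩)
    rw [← h, RatFunc.coe_coe, RatFunc.coe_coe]
    exact (congrArg (algebraMap (RatFunc K) K⸨X⸩) hmul).trans (map_mul _ _ _)
  have h2 : r.num.eval 0 = PowerSeries.constantCoeff g * r.denom.eval 0 := by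
    have := congrArg PowerSeries.constantCoeff h1
    rwa [map_mul, Polynomial.constantCoeff_coe, Polynomial.constantCoeff_coe, Polynomial.coeff_zero_eq_eval_zero,
      Polynomial.coeff_zero_eq_eval_zero] at this
  have hd : r.denom.eval 0 ≠ 0 := by
    intro h0
    rw [h0, mul_zero] at h2
    obtain ⟨p, q, hpq⟩ := RatFunc.isCoprime_num_denom r
    have := congrArg (Polynomial.eval (0 : K)) hpq
    simp [h0, h2] at this
  refine ⟨hd, ?_⟩
  show r.num.eval₂ (RingHom.id K) 0 / r.denom.eval₂ (RingHom.id K) 0 = _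
  rw [Polynomial.eval₂_id, Polynomial.eval₂_id, h2, mul_div_cancel_right₀ _ hd]

theorem continuous_eval₂Hom {σ A F : Type*} [CommRing A] [CommRing F] [TopologicalSpace F]
    [IsTopologicalRing F] (e : A →+* F) (f : MvPolynomial σ A) :
    Continuous fun z : σ → F => MvPolynomial.eval₂Hom e z f := by
  have : (fun z : σ → F => MvPolynomial.eval₂Hom e z f) =
      fun z => MvPolynomial.eval z (MvPolynomial.map e f) :=
    funext fun z => (MvPolynomial.eval_map e z f).symm
  rw [this]
  exact MvPolynomial.continuous_eval _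

open MvPolynomial in
/-- Rational approximation of a formal curve through a morphism from a basic open of affine space. -/
theorem exists_rational {n : ℕ} [Infinite K] {B : Type u} [CommRing B] [Algebra k B]
    [Algebra.FiniteType k B] (G : MvPolynomial (Fin n) k)
    (R : Type u) [CommRing R] [Algebra (MvPolynomial (Fin n) k) R] [IsLocalization.Away G R]
    (β : B →+* R)
    (hβ : ∀ r, β (algebraMap k B r) = algebraMap (MvPolynomial (Fin n) k) R (C r))
    (ψ : B →+* PowerSeries K) (w : R →+* K⸨X⸩)
    (hwψ : ∀ b, w (β b) = (ψ b : K⸨X⸩)) :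
    (∀ r : k, w (algebraMap (MvPolynomial (Fin n) k) R (C r)) = ((PowerSeries.C (algebraMap k K r)) : K⸨X⸩)) →
    ∃ (D : K[X]) (Θ : B →+* Localization.Away D), D.eval 0 ≠ 0 ∧
      (∀ r, Θ (algebraMap k B r) = algebraMap K[X] (Localization.Away D) (Polynomial.C (algebraMap k K r))) ∧
      (∀ e : Localization.Away D →+* K, e.comp (algebraMap K[X] _) = Polynomial.evalRingHom 0 →
        e.comp Θ = PowerSeries.constantCoeff.comp ψ) ∧
      ∃ (c : K) (z : R →+* K), D.eval c ≠ 0 ∧
        (∀ r : k, z (algebraMap (MvPolynomial (Fin n) k) R (C r)) = algebraMap k K r) ∧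
        ∀ e : Localization.Away D →+* K, e.comp (algebraMap K[X] _) = Polynomial.evalRingHom c →
          e.comp Θ = z.comp β := by
  intro hw
  classical
  let P := MvPolynomial (Fin n) k
  obtain ⟨s, hs⟩ := ‹Algebra.FiniteType k B›.out
  choose p hp using fun b : B => IsLocalization.Away.surj G (β b)
  choose q hq using hp
  let u : Fin n → K⸨X⸩ := fun i => w (algebraMap P R (X i))
  let ek : k →+* K⸨X⸩ := (HahnSeries.ofPowerSeries ℤ K).comp (PowerSeries.C.comp (algebraMap k K))
  let E : (Fin n → K⸨X⸩) → P →+* K⸨X⸩ := fun z => eval₂Hom ek z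
  have hEu : ∀ f : P, E u f = w (algebraMap P R f) := fun f => by
    have : E u = w.comp (algebraMap P R) := by
      refine MvPolynomial.ringHom_ext (fun r => ?_) (fun i => ?_)
      · rw [RingHom.comp_apply, hw]; simp [E, ek]
      · simp [E, u]
    exact DFunLike.congr_fun this f
  have hGu : E u G ≠ 0 := by
    rw [hEu]
    exact ((IsLocalization.Away.algebraMap_isUnit G).map w).ne_zero
  have hcont : ∀ f : P, Continuous fun z : Fin n → K⸨X⸩ => E z f := fun f => continuous_eval₂Hom ek f
  let T : K⸨X⸩ := HahnSeries.single 1 1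
  have hT0 : T ≠ 0 := HahnSeries.single_ne_zero one_ne_zero
  let Fb : B → (Fin n → K⸨X⸩) → K⸨X⸩ := fun b z => (E z (q b) / E z G ^ p b - (ψ b : K⸨X⸩)) / T
  have hFu : ∀ b, Fb b u = 0 := fun b => by
    have h1 := congrArg w (hq b)
    rw [map_mul, map_pow, ← hEu, ← hEu] at h1
    simp only [Fb]
    rw [← h1, mul_div_cancel_right₀ _ (pow_ne_zero _ hGu), hwψ, sub_self, zero_div]
  have hmem : {z : Fin n → K⸨X⸩ | E z G ≠ 0 ∧
      ∀ b ∈ s, Valued.v (Fb b z) ≤ 1} ∈ nhds u := by
    refine Filter.inter_mem ((hcont G).continuousAt.preimage_mem_nhds (isOpen_ne.mem_nhds hGu)) ?_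
    refine (Filter.eventually_all_finset s).2 fun b _ => ?_
    have hc : ContinuousAt (Fb b) u :=
      ((((hcont (q b)).continuousAt.div ((hcont G).pow _).continuousAt (pow_ne_zero _ hGu))).sub
        continuousAt_const).div_const _
    have ho : IsOpen {y : K⸨X⸩ | Valued.v y ≤ 1} := Valued.isOpen_integer K⸨X⸩
    refine hc.preimage_mem_nhds (ho.mem_nhds ?_)
    show Valued.v (Fb b u) ≤ 1
    rw [hFu, map_zero]
    exact zero_le
  obtain ⟨u', hu'⟩ := ((DenseRange.piMap fun _ : Fin n => LaurentSeries.coe_range_dense (K := K))).mem_nhds hmem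
  let θP : P →+* RatFunc K := eval₂Hom (RatFunc.C.comp (algebraMap k K)) u'
  have hθPC : ∀ r : k, θP (MvPolynomial.C r) = RatFunc.C (algebraMap k K r) := fun r => eval₂Hom_C _ _ _
  have hθPX : ∀ i, θP (MvPolynomial.X i) = u' i := fun i => eval₂Hom_X' _ _ _
  have hθE : ∀ f : P, ((θP f : RatFunc K) : K⸨X⸩) = E (fun i => (u' i : K⸨X⸩)) f := fun f => by
    have : (algebraMap (RatFunc K) K⸨X⸩).comp θP = E (fun i => (u' i : K⸨X⸩)) := by
      refine MvPolynomial.ringHom_ext (fun r => ?_) (fun i => ?_)
      · show ((θP (MvPolynomial.C r) : RatFunc K) : K⸨X⸩) = E (fun i => (u' i : K⸨X⸩)) (MvPolynomial.C r)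
        rw [hθPC, show E (fun i => (u' i : K⸨X⸩)) (MvPolynomial.C r) = ek r from eval₂Hom_C _ _ _]
        show _ = ((PowerSeries.C (algebraMap k K r) : PowerSeries K) : K⸨X⸩)
        rw [← RatFunc.algebraMap_C]
        exact (RatFunc.coe_coe _).symm.trans (by rw [Polynomial.coe_C])
      · show ((θP (MvPolynomial.X i) : RatFunc K) : K⸨X⸩) = E (fun i => (u' i : K⸨X⸩)) (MvPolynomial.X i)
        rw [hθPX, show E (fun i => (u' i : K⸨X⸩)) (MvPolynomial.X i) = _ from eval₂Hom_X' _ _ _]
    exact DFunLike.congr_fun this f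
  have hG' : θP G ≠ 0 := fun h => hu'.1 (by
    show E _ G = 0
    exact (hθE G).symm.trans (by rw [h]; exact map_zero _))
  let θR : R →+* RatFunc K := IsLocalization.Away.lift G (isUnit_iff_ne_zero.2 hG')
  have hθRf : ∀ f : P, θR (algebraMap P R f) = θP f := fun f => IsLocalization.Away.lift_eq G _ f
  have hθR : ∀ r : k, θR (algebraMap P R (C r)) = RatFunc.C (algebraMap k K r) := fun r => by
    exact (hθRf _).trans (hθPC r)
  let θ : B →+* RatFunc K := θR.comp β
  have hθk : ∀ r, θ (algebraMap k B r) = RatFunc.C (algebraMap k K r) := fun r => by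
    show θR (β (algebraMap k B r)) = _
    rw [hβ]
    exact hθR r
  have h0 : ∀ b ∈ s, (θ b).denom.eval 0 ≠ 0 ∧
      RatFunc.eval (RingHom.id K) 0 (θ b) = PowerSeries.constantCoeff (ψ b) := fun b hb => by
    obtain ⟨g, hg⟩ := (LaurentSeries.val_le_one_iff_eq_coe K _).1 (hu'.2 b hb)
    have hθb : (θ b : K⸨X⸩) = ((ψ b + PowerSeries.X * g : PowerSeries K) : K⸨X⸩) := by
      have h1 := congrArg θR (hq b)
      rw [map_mul, map_pow, hθRf, hθRf] at h1
      have h2 : θ b = θP (q b) / θP G ^ p b := by
        rw [← h1, mul_div_cancel_right₀ _ (pow_ne_zero _ hG')]; rfl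
      have h3 : ((θ b : RatFunc K) : K⸨X⸩) = E (fun i => (u' i : K⸨X⸩)) (q b) / E (fun i => (u' i : K⸨X⸩)) G ^ p b := by
        rw [h2, ← hθE, ← hθE]
        exact (map_div₀ (algebraMap (RatFunc K) K⸨X⸩) _ _).trans (by rw [map_pow])
      rw [PowerSeries.coe_add, PowerSeries.coe_mul, PowerSeries.coe_X, hg, h3]
      show _ = _ + T * ((_ - _) / T)
      rw [mul_div_cancel₀ _ hT0]
      exact (add_sub_cancel _ _).symm
    obtain ⟨h1, h2⟩ := eval_zero_of_coe hθb
    exact ⟨h1, by rw [h2]; simp⟩
  let D : K[X] := ∏ b ∈ s, (θ b).denom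
  have hDne : D ≠ 0 := Finset.prod_ne_zero_iff.2 fun b _ => RatFunc.denom_ne_zero _
  have hD : ∀ c, D.eval c ≠ 0 ↔ ∀ b ∈ s, (θ b).denom.eval c ≠ 0 := fun c => by
    simp only [D, Polynomial.eval_prod, Finset.prod_ne_zero_iff]
  let ι : Localization.Away D →+* RatFunc K := IsLocalization.Away.lift D
    (g := algebraMap K[X] (RatFunc K)) (isUnit_iff_ne_zero.2 (RatFunc.algebraMap_ne_zero hDne))
  have hιa : ∀ f, ι (algebraMap K[X] _ f) = algebraMap K[X] (RatFunc K) f := fun f =>
    IsLocalization.Away.lift_eq D _ f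
  have hιinj : Function.Injective ι := by
    rw [injective_iff_map_eq_zero]
    intro x hx
    obtain ⟨m, f, hf⟩ := IsLocalization.Away.surj D x
    have h1 := congrArg ι hf
    rw [map_mul, hx, zero_mul, hιa] at h1
    have h2 : f = 0 := RatFunc.algebraMap_injective K (by rw [← h1, map_zero])
    rw [h2, map_zero] at hf
    exact ((IsLocalization.Away.algebraMap_isUnit D).pow m |>.mul_left_eq_zero).1 hf
  have hrange : ∀ b, θ b ∈ ι.range := fun b => by
    have hb : b ∈ Algebra.adjoin k (s : Set B) := by rw [hs]; trivial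
    refine Algebra.adjoin_induction (fun x hx => ?_) (fun r => ?_) (fun x y _ _ hx hy => ?_)
      (fun x y _ _ hx hy => ?_) hb
    · obtain ⟨e, he⟩ : (θ x).denom ∣ D := Finset.dvd_prod_of_mem (fun b => (θ b).denom) hx
      obtain ⟨v, hv⟩ := (IsLocalization.Away.algebraMap_isUnit (S := Localization.Away D) D).exists_right_inv
      refine ⟨algebraMap K[X] _ ((θ x).num * e) * v, ?_⟩
      have hv' : algebraMap K[X] (RatFunc K) D * ι v = 1 := by rw [← hιa, ← map_mul, hv, map_one]
      rw [map_mul, hιa, map_mul]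
      have hnd : algebraMap K[X] (RatFunc K) (θ x).num = θ x * algebraMap K[X] (RatFunc K) (θ x).denom := by
        conv_rhs => arg 1; rw [← RatFunc.num_div_denom (θ x)]
        rw [div_mul_cancel₀ _ (RatFunc.algebraMap_ne_zero (RatFunc.denom_ne_zero _))]
      rw [show algebraMap K[X] (RatFunc K) D = algebraMap K[X] (RatFunc K) (θ x).denom * algebraMap K[X] (RatFunc K) e from
        (congrArg _ he).trans (map_mul _ _ _)] at hv'
      rw [hnd]
      linear_combination (θ x) * hv'
    · exact ⟨algebraMap K[X] _ (Polynomial.C (algebraMap k K r)), by rw [hιa, hθk, RatFunc.algebraMap_C]⟩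
    · rw [map_add]; exact add_mem hx hy
    · rw [map_mul]; exact mul_mem hx hy
  let Θ : B →+* Localization.Away D :=
    (RingEquiv.ofBijective ι.rangeRestrict ⟨fun x y h => hιinj (congrArg Subtype.val h),
      ι.rangeRestrict_surjective⟩).symm.toRingHom.comp (θ.codRestrict ι.range hrange)
  have hιΘ : ∀ b, ι (Θ b) = θ b := fun b => congrArg Subtype.val
    ((RingEquiv.ofBijective ι.rangeRestrict ⟨fun x y h => hιinj (congrArg Subtype.val h),
      ι.rangeRestrict_surjective⟩).apply_symm_apply (θ.codRestrict ι.range hrange b))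
  have hev : ∀ (c : K), D.eval c ≠ 0 → ∀ (e : Localization.Away D →+* K),
      e.comp (algebraMap K[X] _) = Polynomial.evalRingHom c →
      ∀ b, e (Θ b) = RatFunc.eval (RingHom.id K) c (θ b) := by
    intro c hc e he b
    have hden : ∀ x, (ι x).denom.eval c ≠ 0 := fun x => by
      obtain ⟨m, f, hf⟩ := IsLocalization.Away.surj D x
      have h1 := congrArg ι hf
      rw [map_mul, map_pow, hιa, hιa] at h1
      intro h0
      have hdv : (ι x).denom ∣ D ^ m :=
        (RatFunc.denom_dvd (pow_ne_zero _ hDne)).2 ⟨f, by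
          rw [← h1, map_pow, mul_div_cancel_right₀ _ (pow_ne_zero _ (RatFunc.algebraMap_ne_zero hDne))]⟩
      have := Polynomial.eval_eq_zero_of_dvd_of_eval_eq_zero hdv h0
      rw [Polynomial.eval_pow] at this
      exact pow_ne_zero _ hc this
    have h1 : e = evalHom c ι hden := by
      refine IsLocalization.ringHom_ext (Submonoid.powers D) (he.trans (RingHom.ext fun f => ?_))
      rw [RingHom.comp_apply, evalHom_apply, hιa, RatFunc.eval_algebraMap]
      simp
    rw [h1, evalHom_apply, hιΘ]
  refine ⟨D, Θ, (hD 0).2 fun b hb => (h0 b hb).1, fun r => hιinj ?_, fun e he => ?_, ?_⟩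
  · rw [hιΘ, hιa, hθk, RatFunc.algebraMap_C]
  · have hd0 : ∀ b, (θ b).denom.eval 0 ≠ 0 :=
      denom_ne_zero_of_gens 0 θ hθk _ hs fun b hb => (h0 b hb).1
    have key : ∀ b, RatFunc.eval (RingHom.id K) 0 (θ b) = PowerSeries.constantCoeff (ψ b) := fun b => by
      have hb : b ∈ Algebra.adjoin k (s : Set B) := by rw [hs]; trivial
      refine Algebra.adjoin_induction (fun x hx => (h0 x hx).2) (fun r => ?_) (fun x y _ _ hx hy => ?_)
        (fun x y _ _ hx hy => ?_) hb
      · have h1 : (ψ (algebraMap k B r) : K⸨X⸩) = ((PowerSeries.C (algebraMap k K r) : PowerSeries K) : K⸨X⸩) := by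
          rw [← hwψ, hβ, hw]
        rw [hθk, HahnSeries.ofPowerSeries_injective h1]
        simp
      · rw [map_add, map_add, map_add, RatFunc.eval_add (f := RingHom.id K) (a := (0 : K)) (hd0 x) (hd0 y), hx, hy]
      · rw [map_mul, map_mul, map_mul, RatFunc.eval_mul (f := RingHom.id K) (a := (0 : K)) (hd0 x) (hd0 y), hx, hy]
    exact RingHom.ext fun b => (hev 0 ((hD 0).2 fun b hb => (h0 b hb).1) e he b).trans (key b)
  · obtain ⟨sR, hsR⟩ : ∃ sR : Finset R, ∀ c : K, (∀ r ∈ sR, (θR r).denom.eval c ≠ 0) →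
        ∀ r : R, (θR r).denom.eval c ≠ 0 := by
      letI : Algebra k R := ((algebraMap P R).comp C).toAlgebra
      haveI : IsScalarTower k P R := IsScalarTower.of_algebraMap_eq fun r => rfl
      haveI : Algebra.FiniteType P R := IsLocalization.finiteType_of_monoid_fg (Submonoid.powers G) R
      haveI : Algebra.FiniteType k R := Algebra.FiniteType.trans (S := P) inferInstance inferInstance
      obtain ⟨sR, hsR⟩ := ‹Algebra.FiniteType k R›.out
      exact ⟨sR, fun c h => denom_ne_zero_of_gens c θR hθR _ hsR h⟩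
    obtain ⟨c, hc⟩ : ∃ c : K, (D * ∏ r ∈ sR, (θR r).denom).eval c ≠ 0 := by
      by_contra! hc
      exact mul_ne_zero hDne (Finset.prod_ne_zero_iff.2 fun r _ => RatFunc.denom_ne_zero (θR r))
        (Polynomial.funext fun c => by rw [hc c, Polynomial.eval_zero])
    rw [Polynomial.eval_mul, mul_ne_zero_iff] at hc
    have hc2 : ∀ r ∈ sR, (θR r).denom.eval c ≠ 0 := by
      have := hc.2
      rwa [Polynomial.eval_prod, Finset.prod_ne_zero_iff] at this
    refine ⟨c, evalHom c θR (hsR c hc2), hc.1, fun r => ?_, fun e he => ?_⟩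
    · rw [evalHom_apply, hθR]; simp
    · exact RingHom.ext fun b => hev c hc.1 e he b

end Groth.Agent.RTrivLib
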