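import Groth.Prelude.Def_W4c5nonratstablectREq
import Groth.Agent.RTrivLib.Alg
import Mathlib.AlgebraicGeometry.Morphisms.Smooth
import Mathlib.RingTheory.RingHom.StandardSmooth
import Mathlib.AlgebraicGeometry.AffineScheme
import Groth.Agent.S18571

/-!
Every rational point of a smooth retract rational variety is directly linked to one in the retract.
-/

set_option autoImplicit false
set_option backward.isDefEq.respectTransparency false
set_option maxHeartbeats 1000000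

universe u

open CategoryTheory AlgebraicGeometry Polynomial Groth.Agent.H23
open scoped LaurentSeries

noncomputable section

namespace Groth.Agent.RTrivLib

variable {k : Type u} [Field k] {X : Scheme.{u}} {f : X ⟶ Spec (CommRingCat.of k)}

theorem exists_chart [Smooth f] (x : X) :
    ∃ (V : X.Opens) (hV : IsAffineOpen V) (_ : x ∈ V) (d : ℕ)
      (g : MvPolynomial (Fin d) k →+* Γ(X, V)), g.Etale ∧
      hV.fromSpec ≫ f = Spec.map (CommRingCat.ofHom (g.comp MvPolynomial.C)) := by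
  obtain ⟨U', hU', V, hV, hx, e, hstd⟩ := Smooth.exists_isStandardSmooth f x
  obtain rfl : U' = ⊤ := by
    refine TopologicalSpace.Opens.ext (Set.eq_univ_of_forall fun y => ?_)
    rw [Subsingleton.elim y (f x)]
    exact e hx
  have heq := hU'.SpecMap_appLE_fromSpec f hV e
  have hiso : IsIso hU'.fromSpec := by
    rw [show hU'.fromSpec = (Spec (CommRingCat.of k)).isoSpec.inv from IsAffineOpen.fromSpec_top]
    infer_instance
  obtain ⟨ρ, hρ⟩ : ∃ ρ, Spec.map ρ = hU'.fromSpec := ⟨Spec.preimage _, Spec.map_preimage _⟩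
  haveI : IsIso ρ := by
    haveI : IsIso (Spec.map ρ) := hρ ▸ hiso
    exact (ConcreteCategory.isIso_iff_bijective ρ).2 (isIso_SpecMap_iff.1 inferInstance)
  have hstd' : (ρ ≫ f.appLE ⊤ V e).hom.IsStandardSmooth :=
    RingHom.isStandardSmooth_respectsIso.2 (f.appLE ⊤ V e).hom (asIso ρ).commRingCatIsoToRingEquiv hstd
  obtain ⟨d, g, hgC, hg⟩ := RingHom.IsStandardSmooth.exists_etale_mvPolynomial hstd'
  refine ⟨V, hV, hx, d, g, hg, ?_⟩
  rw [← heq, ← hρ, ← Spec.map_comp, hgC]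
  rfl

theorem exists_link [CharZero k] [IsIntegral X] [Smooth f] (U₀ : X.Opens) {n : ℕ}
    (V₀ : (Spec (CommRingCat.of (MvPolynomial (Fin n) k))).Opens)
    (a : (U₀ : Scheme.{u}) ⟶ (V₀ : Scheme.{u})) (b : (V₀ : Scheme.{u}) ⟶ (U₀ : Scheme.{u}))
    (hne : (U₀ : Set X).Nonempty) (hab : a ≫ b = 𝟙 _)
    (ha : a ≫ V₀.ι ≫ Spec.map (CommRingCat.ofHom (algebraMap k (MvPolynomial (Fin n) k))) = U₀.ι ≫ f)
    (hb : b ≫ U₀.ι ≫ f = V₀.ι ≫ Spec.map (CommRingCat.ofHom (algebraMap k (MvPolynomial (Fin n) k))))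
    {K : Type u} [Field K] [Algebra k K] (A : REq.Pts f K) :
    ∃ B : REq.Pts f K, REq.InOpen f U₀ B ∧ REq.ElemLink f K A B := by
  haveI : CharZero K := charZero_of_injective_algebraMap (algebraMap k K).injective
  haveI : Infinite K := Infinite.of_injective (Nat.cast : ℕ → K) Nat.cast_injective
  obtain ⟨V, hV, hxV, d, g, hg, hgf⟩ := exists_chart (f := f) (A.1 (IsLocalRing.closedPoint K))
  haveI : Nonempty V := ⟨⟨_, hxV⟩⟩
  let B := Γ(X, V)
  letI := g.toAlgebra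
  haveI : Algebra.Etale (MvPolynomial (Fin d) k) B := RingHom.etale_algebraMap.1 hg
  letI : Algebra k B := (g.comp MvPolynomial.C).toAlgebra
  haveI : IsScalarTower k (MvPolynomial (Fin d) k) B := IsScalarTower.of_algebraMap_eq fun r => rfl
  haveI : Algebra.FiniteType k B := Algebra.FiniteType.trans (S := MvPolynomial (Fin d) k) inferInstance inferInstance
  -- the point in the chart
  have hAr : Set.range A.1 ⊆ Set.range hV.fromSpec := by
    rw [hV.range_fromSpec]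
    rintro _ ⟨y, rfl⟩
    rw [Subsingleton.elim y (IsLocalRing.closedPoint K)]
    exact hxV
  obtain ⟨ψ0, hψ0⟩ : ∃ ψ0, Spec.map ψ0 = IsOpenImmersion.lift hV.fromSpec A.1 hAr :=
    ⟨Spec.preimage _, Spec.map_preimage _⟩
  have hψ0k : CommRingCat.ofHom (g.comp MvPolynomial.C) ≫ ψ0 = CommRingCat.ofHom (algebraMap k K) := by
    apply Spec.map_injective
    rw [Spec.map_comp, hψ0, ← hgf, IsOpenImmersion.lift_fac_assoc, A.2]
  -- a basic open of affine space mapping into the chart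
  obtain ⟨z, hzV, hz0⟩ := nonempty_preirreducible_inter V.2 U₀.2 ⟨_, hxV⟩ hne
  let O := (b ≫ U₀.ι) ⁻¹ᵁ V
  have hO : a ⟨z, hz0⟩ ∈ O := by
    show (a ≫ b ≫ U₀.ι) _ ∈ V
    rw [reassoc_of% hab]
    exact hzV
  obtain ⟨_, ⟨G, rfl⟩, hpG, hGO⟩ := PrimeSpectrum.isTopologicalBasis_basic_opens.exists_subset_of_mem_open
    (show V₀.ι (a ⟨z, hz0⟩) ∈ ((V₀.ι ''ᵁ O : (Spec (CommRingCat.of (MvPolynomial (Fin n) k))).Opens) : Set _)
      from ⟨_, hO, rfl⟩) (V₀.ι ''ᵁ O).2
  let R := Localization.Away G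
  let jR : Spec (CommRingCat.of R) ⟶ Spec (CommRingCat.of (MvPolynomial (Fin n) k)) :=
    Spec.map (CommRingCat.ofHom (algebraMap _ R))
  haveI : IsOpenImmersion jR := IsOpenImmersion.of_isLocalization G
  have hjR : Set.range jR = (PrimeSpectrum.basicOpen G : Set (PrimeSpectrum _)) :=
    PrimeSpectrum.localization_away_comap_range R G
  have hjRV : ∀ y, jR y ∈ V₀.ι ''ᵁ O := fun y => hGO (hjR.le (Set.mem_range_self y))
  let lR := IsOpenImmersion.lift V₀.ι jR (by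
    rw [Scheme.Opens.range_ι]
    rintro _ ⟨y, rfl⟩
    obtain ⟨o, -, ho⟩ := hjRV y
    rw [← ho]
    exact o.2)
  have hlR : lR ≫ V₀.ι = jR := IsOpenImmersion.lift_fac _ _ _
  have hlRr : Set.range (lR ≫ b ≫ U₀.ι) ⊆ Set.range hV.fromSpec := by
    rw [hV.range_fromSpec]
    rintro _ ⟨y, rfl⟩
    obtain ⟨o, ho, hoy⟩ := hjRV y
    have h1 : lR y = o := V₀.ι.isOpenEmbedding.injective (by
      rw [← Scheme.Hom.comp_apply, hlR]; exact hoy.symm)
    show (b ≫ U₀.ι) (lR y) ∈ V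
    rw [h1]
    exact ho
  obtain ⟨β, hβ⟩ : ∃ β, Spec.map β = IsOpenImmersion.lift hV.fromSpec (lR ≫ b ≫ U₀.ι) hlRr :=
    ⟨Spec.preimage _, Spec.map_preimage _⟩
  have hβ' : Spec.map β ≫ hV.fromSpec = lR ≫ b ≫ U₀.ι := by rw [hβ, IsOpenImmersion.lift_fac]
  have hβk : CommRingCat.ofHom (g.comp MvPolynomial.C) ≫ β =
      CommRingCat.ofHom ((algebraMap (MvPolynomial (Fin n) k) R).comp MvPolynomial.C) := by
    apply Spec.map_injective
    rw [Spec.map_comp, ← hgf, reassoc_of% hβ', hb, reassoc_of% hlR, ← Spec.map_comp]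
    rfl
  -- the retraction on a basic open of the chart
  let O₂ : (U₀ : Scheme.{u}).Opens := (a ≫ V₀.ι) ⁻¹ᵁ PrimeSpectrum.basicOpen G
  let W : (Spec Γ(X, V)).Opens := hV.fromSpec ⁻¹ᵁ (U₀.ι ''ᵁ O₂)
  obtain ⟨w₀, hw₀⟩ : z ∈ Set.range hV.fromSpec := by rw [hV.range_fromSpec]; exact hzV
  have hw₀W : w₀ ∈ W := by
    show hV.fromSpec w₀ ∈ U₀.ι ''ᵁ O₂
    rw [hw₀]
    exact ⟨⟨z, hz0⟩, hpG, rfl⟩
  obtain ⟨_, ⟨b₁, rfl⟩, hw₀b, hbW⟩ := PrimeSpectrum.isTopologicalBasis_basic_opens.exists_subset_of_mem_open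
    hw₀W W.2
  have hb₁ : b₁ ≠ 0 := fun h => hw₀b (by rw [h]; exact zero_mem _)
  let B₁ := Localization.Away b₁
  let jB : Spec (CommRingCat.of B₁) ⟶ X := Spec.map (CommRingCat.ofHom (algebraMap B B₁)) ≫ hV.fromSpec
  have hjBW : ∀ y, jB y ∈ U₀.ι ''ᵁ O₂ := fun y =>
    hbW ((PrimeSpectrum.localization_away_comap_range B₁ b₁).le (Set.mem_range_self y))
  let lU := IsOpenImmersion.lift U₀.ι jB (by
    rw [Scheme.Opens.range_ι]
    rintro _ ⟨y, rfl⟩
    obtain ⟨o, -, ho⟩ := hjBW y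
    rw [← ho]
    exact o.2)
  have hlU : lU ≫ U₀.ι = jB := IsOpenImmersion.lift_fac _ _ _
  have hlUr : Set.range (lU ≫ a ≫ V₀.ι) ⊆ Set.range jR := by
    rw [hjR]
    rintro _ ⟨y, rfl⟩
    obtain ⟨o, ho, hoy⟩ := hjBW y
    have h1 : lU y = o := U₀.ι.isOpenEmbedding.injective (by
      rw [← Scheme.Hom.comp_apply, hlU]; exact hoy.symm)
    show (a ≫ V₀.ι) (lU y) ∈ PrimeSpectrum.basicOpen G
    rw [h1]
    exact ho
  obtain ⟨α, hα⟩ : ∃ α, Spec.map α = IsOpenImmersion.lift jR (lU ≫ a ≫ V₀.ι) hlUr :=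
    ⟨Spec.preimage _, Spec.map_preimage _⟩
  have hαlR : Spec.map α ≫ lR = lU ≫ a := by
    rw [← cancel_mono V₀.ι, Category.assoc, hlR, hα, IsOpenImmersion.lift_fac, Category.assoc]
  have hαβ : β ≫ α = CommRingCat.ofHom (algebraMap B B₁) := by
    apply Spec.map_injective
    rw [← cancel_mono hV.fromSpec, Spec.map_comp, Category.assoc, hβ', reassoc_of% hαlR,
      reassoc_of% hab, hlU]
  -- the formal curve
  obtain ⟨ψ, hψc, hψk, hψb⟩ := exists_curve (k := k) (K := K) (B := B) ψ0.hom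
    (d := d) (fun r => DFunLike.congr_fun (congrArg CommRingCat.Hom.hom hψ0k) r) b₁ hb₁
  let eK : PowerSeries K →+* K⸨X⸩ := HahnSeries.ofPowerSeries ℤ K
  let S : B₁ →+* K⸨X⸩ := IsLocalization.Away.lift b₁ (g := eK.comp ψ)
    (isUnit_iff_ne_zero.2 fun h => hψb (HahnSeries.ofPowerSeries_injective (h.trans (map_zero eK).symm)))
  have hw : ∀ c, S (α.hom (β.hom c)) = eK (ψ c) := fun c => by
    rw [show α.hom (β.hom c) = algebraMap B B₁ c from
      DFunLike.congr_fun (congrArg CommRingCat.Hom.hom hαβ) c]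
    exact IsLocalization.Away.lift_eq b₁ _ c
  have hβk' : ∀ r : k, β.hom (algebraMap k B r) = algebraMap (MvPolynomial (Fin n) k) R (MvPolynomial.C r) :=
    fun r => DFunLike.congr_fun (congrArg CommRingCat.Hom.hom hβk) r
  obtain ⟨D, Θ, hD0, hΘk, hΘ0, c, ζ, hDc, hζk, hΘc⟩ := exists_rational (k := k) (K := K) (B := B) G R β.hom hβk'
    ψ (S.comp α.hom) hw (fun r => by
      rw [← hβk']
      exact (hw _).trans (congrArg eK (hψk r)))
  -- the rational curve
  let jD : Spec (CommRingCat.of (Localization.Away D)) ⟶ Spec (CommRingCat.of K[X]) :=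
    Spec.map (CommRingCat.ofHom (algebraMap K[X] _))
  haveI : IsOpenImmersion jD := IsOpenImmersion.of_isLocalization D
  let j : Spec (CommRingCat.of (Localization.Away D)) ⟶ REq.P1K K := jD ≫ P1Charts.chart K 0
  haveI : IsOpenImmersion j := by dsimp only [j]; infer_instance
  let h : (j.opensRange : Scheme.{u}) ⟶ X :=
    j.isoOpensRange.inv ≫ Spec.map (CommRingCat.ofHom Θ) ≫ hV.fromSpec
  have hsec : ∀ (t : K) (e : Localization.Away D →+* K), e.comp (algebraMap K[X] _) = Polynomial.evalRingHom t →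
      (Spec.map (CommRingCat.ofHom e) ≫ j.isoOpensRange.hom) ≫ j.opensRange.ι ≫ REq.P1K.toSpec K = 𝟙 _ ∧
      (Spec.map (CommRingCat.ofHom e) ≫ j.isoOpensRange.hom) ≫ h =
        Spec.map (CommRingCat.ofHom (e.comp Θ)) ≫ hV.fromSpec := by
    intro t e he
    constructor
    · rw [Category.assoc, Scheme.Hom.isoOpensRange_hom_ι_assoc]
      change Spec.map _ ≫ (jD ≫ P1Charts.chart K 0) ≫ CohB1.ProjSpaceOver.toBase 1 _ = 𝟙 _
      rw [Category.assoc, P1Charts.chart_toBase, ← Spec.map_comp, ← Spec.map_comp, ← Spec.map_id]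
      congr 1
      refine CommRingCat.hom_ext (RingHom.ext fun r => ?_)
      exact (DFunLike.congr_fun he (Polynomial.C r)).trans (Polynomial.eval_C)
    · simp only [h, Category.assoc, Iso.hom_inv_id_assoc]
      rw [← Spec.map_comp_assoc]
      rfl
  let ev : ∀ t : K, D.eval t ≠ 0 → (Localization.Away D →+* K) := fun t ht =>
    IsLocalization.Away.lift D (g := Polynomial.evalRingHom t) (isUnit_iff_ne_zero.2 ht)
  have hev : ∀ t ht, (ev t ht).comp (algebraMap K[X] _) = Polynomial.evalRingHom t := fun t ht =>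
    RingHom.ext fun p => IsLocalization.Away.lift_eq D (isUnit_iff_ne_zero.2 ht : IsUnit (Polynomial.evalRingHom t D)) p
  have hh : h ≫ f = j.opensRange.ι ≫ REq.P1K.toSpec K ≫ REq.specMap k K := by
    rw [← cancel_epi j.isoOpensRange.hom, Scheme.Hom.isoOpensRange_hom_ι_assoc]
    simp only [h, Category.assoc, Iso.hom_inv_id_assoc]
    change _ = (jD ≫ P1Charts.chart K 0) ≫ CohB1.ProjSpaceOver.toBase 1 _ ≫ _
    rw [Category.assoc]
    rw [reassoc_of% (P1Charts.chart_toBase K 0), hgf, REq.specMap, ← Spec.map_comp, ← Spec.map_comp,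
      ← Spec.map_comp]
    congr 1
    exact CommRingCat.hom_ext (RingHom.ext fun r => hΘk r)
  let Bp : Spec (CommRingCat.of K) ⟶ X := Spec.map (CommRingCat.ofHom ζ) ≫ lR ≫ b ≫ U₀.ι
  have hBp : Bp ≫ f = REq.specMap k K := by
    simp only [Bp, Category.assoc]
    rw [hb, reassoc_of% hlR, ← Spec.map_comp, ← Spec.map_comp, REq.specMap]
    congr 1
    exact CommRingCat.hom_ext (RingHom.ext fun r => hζk r)
  refine ⟨⟨Bp, hBp⟩, ?_, j.opensRange, h, _, _, hh, (hsec 0 _ (hev 0 hD0)).1, (hsec c _ (hev c hDc)).1, ?_, ?_⟩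
  · rintro _ ⟨y, rfl⟩
    show U₀.ι ((Spec.map (CommRingCat.ofHom ζ) ≫ lR ≫ b) y) ∈ U₀
    exact ((Spec.map (CommRingCat.ofHom ζ) ≫ lR ≫ b) y).2
  · rw [(hsec 0 _ (hev 0 hD0)).2, hΘ0 _ (hev 0 hD0), hψc]
    show Spec.map ψ0 ≫ hV.fromSpec = A.1
    rw [hψ0, IsOpenImmersion.lift_fac]
  · rw [(hsec c _ (hev c hDc)).2, hΘc _ (hev c hDc)]
    show Spec.map (β ≫ CommRingCat.ofHom ζ) ≫ hV.fromSpec = Bp
    rw [Spec.map_comp, Category.assoc, hβ']

end Groth.Agent.RTrivLib
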